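import Groth.Agent.Lib.GrTilde.Sections
import Mathlib.AlgebraicGeometry.Modules.Tilde
import Mathlib.Algebra.DirectSum.Module

/-! # Sections of the `M(n)~` on `D₊(h)` sum up to the localization of `M` at `h` -/

set_option autoImplicit false
set_option linter.all false
set_option backward.isDefEq.respectTransparency false
set_option maxHeartbeats 800000

universe u

open AlgebraicGeometry CategoryTheory TopologicalSpace Opposite
open scoped DirectSum
open GrothLib.InvExt (mres)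

noncomputable section

namespace GrothLib.KoszulGr9

open GrothLib.GrTilde

variable {R A : Type u} [CommRing R] [CommRing A] [Algebra R A] (𝒜 : ℕ → Submodule R A) [GradedAlgebra 𝒜]
variable {M : Type u} [AddCommGroup M] [Module R M] [Module A M] (ℳ : ℕ → Submodule R M)
variable [SetLike.GradedSMul 𝒜 ℳ] [DirectSum.Decomposition ℳ]

variable (A M) in
/-- `M~` on the spectrum. -/
abbrev spT : (Spec (CommRingCat.of A)).Modules := AlgebraicGeometry.tilde (R := CommRingCat.of A) (ModuleCat.of A M)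

instance (W : (Spec (CommRingCat.of A)).Opens) : Module A Γ(spT A M, W) :=
  ((AlgebraicGeometry.modulesSpecToSheaf (R := CommRingCat.of A)).obj (spT A M)).presheaf.obj (op W) |>.isModule

variable (A M) in
/-- `m ↦ m / 1`. -/
abbrev toW (W : (Spec (CommRingCat.of A)).Opens) : M →ₗ[A] Γ(spT A M, W) :=
  (AlgebraicGeometry.tilde.toOpen (R := CommRingCat.of A) (ModuleCat.of A M) W).hom

theorem map_smul_A {W W' : (Spec (CommRingCat.of A)).Opens} (g : W' ⟶ W) (c : A) (x : Γ(spT A M, W)) :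
    (spT A M).presheaf.map g.op (c • x) = c • (spT A M).presheaf.map g.op x :=
  (((AlgebraicGeometry.modulesSpecToSheaf (R := CommRingCat.of A)).obj (spT A M)).presheaf.map g.op).hom.map_smul c x

omit [Module R M] in
theorem toW_res {W W' : (Spec (CommRingCat.of A)).Opens} (g : W' ⟶ W) (a : M) :
    (spT A M).presheaf.map g.op (toW A M W a) = toW A M W' a :=
  ConcreteCategory.congr_hom (AlgebraicGeometry.tilde.toOpen_res (R := CommRingCat.of A) (ModuleCat.of A M) W W' g) a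

omit [Module R M] in
theorem isLoc (h : A) {W : (Spec (CommRingCat.of A)).Opens} (hW : W = PrimeSpectrum.basicOpen h) :
    IsLocalizedModule (Submonoid.powers h) (toW A M W) := by
  subst hW
  have key : ∀ (R₀ : CommRingCat.{u}) (N : ModuleCat.{u} R₀) (f : R₀), IsLocalizedModule.Away f
      (AlgebraicGeometry.tilde.toOpen N (PrimeSpectrum.basicOpen f)).hom := fun R₀ N f => inferInstance
  exact key (CommRingCat.of A) (ModuleCat.of A M) h

omit [Module R M] in
theorem pow_smul_bijective (h : A) {W : (Spec (CommRingCat.of A)).Opens} (hW : W = PrimeSpectrum.basicOpen h) (k : ℕ) :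
    Function.Bijective fun t : Γ(spT A M, W) => h ^ k • t := by
  haveI := isLoc (M := M) h hW
  exact (Module.End.isUnit_iff _).1 (IsLocalizedModule.map_units (S := Submonoid.powers h) (toW A M W) ⟨h ^ k, (⟨k, rfl⟩ : h ^ k ∈ Submonoid.powers h)⟩)

variable {n : ℤ} {e : ℕ} {h : A}

/-- `m = a / h ^ k`. -/
def Rep (h : A) (e : ℕ) {V : (Proj 𝒜).Opens} (m : Γ(_root_.GrTilde.tilde 𝒜 ℳ n, V)) (k p : ℕ) (a : M) : Prop :=
  (p : ℤ) = (k * e : ℕ) + n ∧ a ∈ ℳ p ∧ ∀ (y : V) (hy : h ^ k ∉ y.1.asHomogeneousIdeal.toIdeal),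
    evM y m = LocalizedModule.mk a ⟨h ^ k, hy⟩

theorem pow_notMem {V : (Proj 𝒜).Opens} (hV : V = Proj.basicOpen 𝒜 h) (y : V) (k : ℕ) :
    h ^ k ∉ y.1.asHomogeneousIdeal.toIdeal := by
  subst hV
  exact fun hm => y.2 (y.1.isPrime.mem_of_pow_mem k hm)

variable {ℳ}

theorem exists_rep (hh : h ∈ 𝒜 e) (he : 0 < e) {V : (Proj 𝒜).Opens} (hV : V = Proj.basicOpen 𝒜 h)
    (m : Γ(_root_.GrTilde.tilde 𝒜 ℳ n, V)) : ∃ k p a, Rep 𝒜 ℳ h e m k p a := by
  subst hV
  obtain ⟨k, -, p, a, hp, ha, hval⟩ := exists_frac 𝒜 hh he m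
  exact ⟨k, p, a, hp, ha, fun y _ => hval y⟩

theorem Rep.bump (hh : h ∈ 𝒜 e) {V : (Proj 𝒜).Opens} (hV : V = Proj.basicOpen 𝒜 h)
    {m : Γ(_root_.GrTilde.tilde 𝒜 ℳ n, V)} {k p : ℕ} {a : M} (r : Rep 𝒜 ℳ h e m k p a) (j : ℕ) :
    Rep 𝒜 ℳ h e m (k + j) (j * e + p) (h ^ j • a) := by
  refine ⟨?_, smul_mem (by simpa using SetLike.pow_mem_graded j hh) r.2.1, fun y hy => ?_⟩
  · have := r.1
    push_cast at this ⊢
    rw [this]; ring
  · rw [r.2.2 y (pow_notMem 𝒜 hV y k)]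
    refine LocalizedModule.mk_eq.mpr ⟨1, ?_⟩
    simp only [one_smul, Submonoid.smul_def, ← mul_smul]
    congr 1
    rw [← pow_add, add_comm]

theorem rep_compat (hh : h ∈ 𝒜 e) (he : 0 < e) {V : (Proj 𝒜).Opens} (hV : V = Proj.basicOpen 𝒜 h)
    {m : Γ(_root_.GrTilde.tilde 𝒜 ℳ n, V)} {k p k' p' : ℕ} {a a' : M}
    (r : Rep 𝒜 ℳ h e m k p a) (r' : Rep 𝒜 ℳ h e m k' p' a') :
    ∃ N, h ^ N • h ^ k' • a = h ^ N • h ^ k • a' := by
  subst hV
  refine exists_pow_smul_eq 𝒜 hh he r.2.1 r'.2.1 (q := k * e) (q' := k' * e)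
    (by simpa using SetLike.pow_mem_graded k hh) (by simpa using SetLike.pow_mem_graded k' hh)
    (Or.inl r.1) (Or.inl r'.1) fun y hy => ?_
  let y' : Proj.basicOpen 𝒜 h := ⟨y, hy⟩
  have e1 := (r.2.2 y' (pow_notMem 𝒜 rfl y' k)).symm.trans (r'.2.2 y' (pow_notMem 𝒜 rfl y' k'))
  obtain ⟨⟨u, hu⟩, hu'⟩ := LocalizedModule.mk_eq.mp e1
  exact ⟨u, hu, hu'⟩

variable {V : (Proj 𝒜).Opens} {W : (Spec (CommRingCat.of A)).Opens}

theorem existsUnique_iota (hh : h ∈ 𝒜 e) (he : 0 < e) (hV : V = Proj.basicOpen 𝒜 h) (hW : W = PrimeSpectrum.basicOpen h)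
    (m : Γ(_root_.GrTilde.tilde 𝒜 ℳ n, V)) :
    ∃! t : Γ(spT A M, W), ∀ k p a, Rep 𝒜 ℳ h e m k p a → h ^ k • t = toW A M W a := by
  obtain ⟨k, p, a, r⟩ := exists_rep 𝒜 hh he hV m
  obtain ⟨t, ht⟩ := (pow_smul_bijective h hW k).2 (toW A M W a)
  refine ⟨t, fun k' p' a' r' => ?_, fun t' ht' => (pow_smul_bijective h hW k).1 ((ht' k p a r).trans ht.symm)⟩
  obtain ⟨N, hN⟩ := rep_compat 𝒜 hh he hV r r'
  apply (pow_smul_bijective h hW (N + k)).1
  show h ^ (N + k) • h ^ k' • t = h ^ (N + k) • toW A M W a'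
  rw [← map_smul (toW A M W), pow_add, mul_smul (h ^ N) (h ^ k) a', ← hN, map_smul, map_smul, ← ht]
  simp only [← mul_smul]
  congr 1
  ring

variable (n) in
/-- The inclusion of the degree `n` sections. -/
def iota (hh : h ∈ 𝒜 e) (he : 0 < e) (hV : V = Proj.basicOpen 𝒜 h) (hW : W = PrimeSpectrum.basicOpen h) :
    Γ(_root_.GrTilde.tilde 𝒜 ℳ n, V) →+ Γ(spT A M, W) :=
  AddMonoidHom.mk' (fun m => (existsUnique_iota 𝒜 hh he hV hW m).choose) fun m m' => by
    obtain ⟨k, p, a, r⟩ := exists_rep 𝒜 hh he hV m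
    obtain ⟨k', p', a', r'⟩ := exists_rep 𝒜 hh he hV m'
    have hs := (existsUnique_iota 𝒜 hh he hV hW m).choose_spec.1
    have hs' := (existsUnique_iota 𝒜 hh he hV hW m').choose_spec.1
    have rs := r.bump 𝒜 hh hV k'
    have rs' := r'.bump 𝒜 hh hV k
    have hp : k' * e + p = k * e + p' := by
      have h1 := r.1
      have h2 := r'.1
      push_cast at h1 h2
      zify
      linarith
    have radd : Rep 𝒜 ℳ h e (m + m') (k + k') (k' * e + p) (h ^ k' • a + h ^ k • a') := by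
      refine ⟨rs.1, add_mem rs.2.1 (hp ▸ rs'.2.1), fun y hy => ?_⟩
      rw [evM_add, rs.2.2 y hy, rs'.2.2 y (pow_notMem 𝒜 hV y (k' + k))]
      rw [show (⟨h ^ (k' + k), pow_notMem 𝒜 hV y (k' + k)⟩ : y.1.asHomogeneousIdeal.toIdeal.primeCompl) = ⟨h ^ (k + k'), hy⟩ from
        Subtype.ext (by rw [add_comm]), LocalizedModule.mk_add_mk]
      refine LocalizedModule.mk_eq.mpr ⟨1, ?_⟩
      simp only [one_smul, Submonoid.smul_def, Submonoid.coe_mul, smul_add, ← mul_smul]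
      congr 2 <;> ring
    apply (pow_smul_bijective h hW (k + k')).1
    show h ^ (k + k') • (existsUnique_iota 𝒜 hh he hV hW (m + m')).choose = h ^ (k + k') • (_ + _)
    rw [(existsUnique_iota 𝒜 hh he hV hW (m + m')).choose_spec.1 _ _ _ radd, smul_add, map_add,
      hs _ _ _ rs, add_comm k k', hs' _ _ _ rs']

theorem pow_smul_iota (hh : h ∈ 𝒜 e) (he : 0 < e) (hV : V = Proj.basicOpen 𝒜 h) (hW : W = PrimeSpectrum.basicOpen h)
    (m : Γ(_root_.GrTilde.tilde 𝒜 ℳ n, V)) {k p : ℕ} {a : M} (r : Rep 𝒜 ℳ h e m k p a) :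
    h ^ k • iota 𝒜 n hh he hV hW m = toW A M W a :=
  (existsUnique_iota 𝒜 hh he hV hW m).choose_spec.1 k p a r

/-- Compatibility with restriction to a smaller basic open. -/
theorem iota_res (hh : h ∈ 𝒜 e) (he : 0 < e) (hV : V = Proj.basicOpen 𝒜 h) (hW : W = PrimeSpectrum.basicOpen h)
    {g h' : A} {d : ℕ} (hg : g ∈ 𝒜 d) (hgh : h' = h * g) {e' : ℕ} (hee : e' = e + d) (hh' : h' ∈ 𝒜 e') (he' : 0 < e')
    {V' : (Proj 𝒜).Opens} {W' : (Spec (CommRingCat.of A)).Opens} (hV' : V' = Proj.basicOpen 𝒜 h')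
    (hW' : W' = PrimeSpectrum.basicOpen h') (i : V' ⟶ V) (j : W' ⟶ W)
    (m : Γ(_root_.GrTilde.tilde 𝒜 ℳ n, V)) :
    iota 𝒜 n hh' he' hV' hW' ((_root_.GrTilde.tilde 𝒜 ℳ n).presheaf.map i.op m) =
      (spT A M).presheaf.map j.op (iota 𝒜 n hh he hV hW m) := by
  obtain ⟨k, p, a, r⟩ := exists_rep 𝒜 hh he hV m
  have r' : Rep 𝒜 ℳ h' e' ((_root_.GrTilde.tilde 𝒜 ℳ n).presheaf.map i.op m) k (k * d + p) (g ^ k • a) := by
    refine ⟨?_, smul_mem (by simpa using SetLike.pow_mem_graded k hg) r.2.1, fun y hy => ?_⟩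
    · have := r.1
      rw [hee]
      push_cast at this ⊢
      rw [this]; ring
    · show evM (⟨y.1, i.le y.2⟩ : V) m = _
      rw [r.2.2 ⟨y.1, i.le y.2⟩ (pow_notMem 𝒜 hV ⟨y.1, i.le y.2⟩ k)]
      refine LocalizedModule.mk_eq.mpr ⟨1, ?_⟩
      simp only [one_smul, Submonoid.smul_def, ← mul_smul, hgh, mul_pow]
  apply (pow_smul_bijective h' hW' k).1
  show h' ^ k • _ = h' ^ k • _
  rw [pow_smul_iota 𝒜 hh' he' hV' hW' _ r', map_smul, hgh, mul_pow, mul_comm, mul_smul]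
  congr 1
  rw [← map_smul_A, pow_smul_iota 𝒜 hh he hV hW m r, toW_res]

/-- **The sections in all degrees sum up to the localization.** -/
theorem sum_iota_bijective (hh : h ∈ 𝒜 e) (he : 0 < e) (hV : V = Proj.basicOpen 𝒜 h) (hW : W = PrimeSpectrum.basicOpen h) :
    Function.Bijective (DirectSum.toAddMonoid fun n : ℤ => iota 𝒜 n hh he hV hW :
      (⨁ n : ℤ, Γ(_root_.GrTilde.tilde 𝒜 ℳ n, V)) →+ Γ(spT A M, W)) := by
  classical
  haveI := isLoc (M := M) h hW
  refine ⟨(injective_iff_map_eq_zero _).2 fun x hx => ?_, fun t => ?_⟩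
  · choose k p a r using fun n : ℤ => exists_rep 𝒜 hh he hV (x n)
    obtain ⟨K, hK⟩ : ∃ K, ∀ n ∈ x.support, k n ≤ K := ⟨x.support.sup k, fun n => Finset.le_sup⟩
    let b : ℤ → M := fun n => h ^ (K - k n) • a n
    let P : ℤ → ℕ := fun n => (K - k n) * e + p n
    have rb : ∀ n ∈ x.support, Rep 𝒜 ℳ h e (x n) K (P n) (b n) := fun n hn => by
      have := (r n).bump 𝒜 hh hV (K - k n)
      rwa [Nat.add_sub_cancel' (hK n hn)] at this
    have hsum : toW A M W (∑ n ∈ x.support, b n) = 0 := by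
      rw [map_sum]
      have : h ^ K • (DirectSum.toAddMonoid (fun n : ℤ => iota 𝒜 n hh he hV hW) x) = 0 := by rw [hx, smul_zero]
      refine Eq.trans ?_ this
      conv_rhs => rw [← DirectSum.sum_support_of x]
      simp only [map_sum, Finset.smul_sum, DirectSum.toAddMonoid_of]
      exact Finset.sum_congr rfl fun n hn => (pow_smul_iota 𝒜 hh he hV hW (x n) (rb n hn)).symm
    obtain ⟨⟨_, N, rfl⟩, hN⟩ := (IsLocalizedModule.eq_zero_iff (Submonoid.powers h) (toW A M W)).1 hsum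
    change h ^ N • (∑ n ∈ x.support, b n) = 0 at hN
    refine DFinsupp.ext fun n => ?_
    by_cases hn : n ∈ x.support
    swap
    · exact DFinsupp.notMem_support_iff.1 hn
    have hmem : ∀ j ∈ x.support, h ^ N • b j ∈ ℳ (N * e + P j) := fun j hj =>
      smul_mem (by simpa using SetLike.pow_mem_graded N hh) (rb j hj).2.1
    have hz : h ^ N • b n = 0 := by
      rw [Finset.smul_sum] at hN
      have := congrArg (fun z => ((DirectSum.decompose ℳ z (N * e + P n) : ℳ (N * e + P n)) : M)) hN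
      simp only [DirectSum.decompose_sum, DirectSum.decompose_zero, DirectSum.zero_apply,
        ZeroMemClass.coe_zero] at this
      rw [DFinsupp.finsetSum_apply, AddSubmonoidClass.coe_finsetSum, Finset.sum_eq_single n (fun j hj hjn => DirectSum.decompose_of_mem_ne ℳ (hmem j hj) fun he' => hjn ?_)
        (fun h' => absurd hn h'), DirectSum.decompose_of_mem_same ℳ (hmem n hn)] at this
      · exact this
      · have h1 := (rb j hj).1
        have h2 := (rb n hn).1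
        omega
    refine evM_ext fun y => ?_
    rw [(rb n hn).2.2 y (pow_notMem 𝒜 hV y K)]
    show _ = (0 : _root_.GrTilde.LocMod 𝒜 (M := M) y.1)
    rw [← LocalizedModule.zero_mk (1 : y.1.asHomogeneousIdeal.toIdeal.primeCompl)]
    refine LocalizedModule.mk_eq.mpr ⟨⟨h ^ N, pow_notMem 𝒜 hV y N⟩, ?_⟩
    simp only [one_smul, Submonoid.smul_def, smul_zero, hz]
  · obtain ⟨⟨a, _, k, rfl⟩, hk⟩ := IsLocalizedModule.surj (Submonoid.powers h) (toW A M W) t
    change h ^ k • t = toW A M W a at hk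
    let c : ℕ → ⨁ n : ℤ, Γ(_root_.GrTilde.tilde 𝒜 ℳ n, V) := fun p =>
      DirectSum.of _ ((p : ℤ) - (k * e : ℕ)) (fracM (DirectSum.decompose ℳ a p : M) (h ^ k) (DirectSum.decompose ℳ a p).2
        (q := k * e) (by simpa using SetLike.pow_mem_graded k hh) (fun y => pow_notMem 𝒜 hV y k) (Or.inl (by ring)))
    refine ⟨∑ p ∈ (DirectSum.decompose ℳ a).support, c p, (pow_smul_bijective h hW k).1 ?_⟩
    show h ^ k • DirectSum.toAddMonoid _ _ = h ^ k • t
    rw [hk, map_sum, Finset.smul_sum]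
    conv_rhs => rw [← DirectSum.sum_support_decompose ℳ a, map_sum]
    refine Finset.sum_congr rfl fun p _ => ?_
    simp only [c, DirectSum.toAddMonoid_of]
    exact pow_smul_iota 𝒜 hh he hV hW _ ⟨by ring, (DirectSum.decompose ℳ a p).2, fun y hy => evM_fracM _ _ _ _ _ _ y⟩

end GrothLib.KoszulGr9
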