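import Groth.Agent.Lib.KoszulGr9.Sum
import Groth.Agent.Lib.KoszulGr9.Iota
import Groth.Agent.Lib.KoszulCech.Scheme
import Groth.Agent.Lib.GrTilde.QCoh
import Groth.Agent.Lib.Cohom.Compare

/-! # The cohomology of all twists on a union of `D₊(f)` and the Koszul colimit -/

set_option autoImplicit false
set_option linter.all false
set_option backward.isDefEq.respectTransparency false
set_option maxHeartbeats 1000000

universe u

open AlgebraicGeometry CategoryTheory CategoryTheory.Limits TopologicalSpace Opposite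
open scoped DirectSum

noncomputable section

namespace GrothLib.KoszulGr9

variable {R A : Type u} [CommRing R] [CommRing A] [Algebra R A] (𝒜 : ℕ → Submodule R A) [GradedAlgebra 𝒜]
variable {M : Type u} [AddCommGroup M] [Module R M] [Module A M] (ℳ : ℕ → Submodule R M)
variable [SetLike.GradedSMul 𝒜 ℳ] [DirectSum.Decomposition ℳ]
variable (fs : List A)

/-- The opens `D₊(f_k)`. -/
abbrev famP (k : ULift.{u} (Fin fs.length)) : (Proj 𝒜).Opens := Proj.basicOpen 𝒜 (fs.get k.down)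

/-- The opens `D(f_k)`. -/
abbrev famS (k : ULift.{u} (Fin fs.length)) : (Spec (CommRingCat.of A)).Opens :=
  KoszulCech.B (R := CommRingCat.of A) (fs.get k.down)

/-- The product along a tuple. -/
abbrev hh {q : ℕ} (a : Fin (q + 1) → ULift.{u} (Fin fs.length)) : A := ∏ k, fs.get (a k).down

theorem objP {q : ℕ} (a : Fin (q + 1) → ULift.{u} (Fin fs.length)) :
    Cech.obj (famP 𝒜 fs) a = Proj.basicOpen 𝒜 (hh fs a) := by
  rw [Cech.obj_eq_iInf]
  apply Opens.ext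
  ext x
  simp only [Opens.coe_iInf, Set.mem_iInter, SetLike.mem_coe]
  show (∀ k, fs.get (a k).down ∉ x.asHomogeneousIdeal.toIdeal) ↔ hh fs a ∉ x.asHomogeneousIdeal.toIdeal
  rw [x.isPrime.prod_mem_iff]
  exact ⟨fun h ⟨k, _, hk⟩ => h k hk, fun h k hk => h ⟨k, Finset.mem_univ k, hk⟩⟩

theorem objS {q : ℕ} (a : Fin (q + 1) → ULift.{u} (Fin fs.length)) :
    Cech.obj (famS fs) a = PrimeSpectrum.basicOpen (hh fs a) := by
  rw [Cech.obj_eq_iInf]
  apply Opens.ext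
  ext x
  simp only [Opens.coe_iInf, Set.mem_iInter, SetLike.mem_coe]
  show (∀ k, fs.get (a k).down ∉ x.asIdeal) ↔ hh fs a ∉ x.asIdeal
  rw [x.isPrime.prod_mem_iff]
  exact ⟨fun h ⟨k, _, hk⟩ => h k hk, fun h k hk => h ⟨k, Finset.mem_univ k, hk⟩⟩

/-- The Čech complex of `M(n)~`. -/
abbrev cxP (n : ℤ) : CochainComplex AddCommGrpCat.{u} ℕ :=
  Cech.cx (famP 𝒜 fs) (_root_.GrTilde.tilde 𝒜 ℳ n).presheaf

variable (A M) in
/-- The Čech complex of `M~`. -/
abbrev cxS : CochainComplex AddCommGrpCat.{u} ℕ := Cech.cx (famS fs) (spT A M).presheaf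

variable {fs} (d : Fin fs.length → ℕ) (hd : ∀ i, 0 < d i) (hm : ∀ i, fs.get i ∈ 𝒜 (d i))

/-- The degree along a tuple. -/
abbrev dd {q : ℕ} (a : Fin (q + 1) → ULift.{u} (Fin fs.length)) : ℕ := ∑ k, d (a k).down

include hm in
theorem hh_mem {q : ℕ} (a : Fin (q + 1) → ULift.{u} (Fin fs.length)) : hh fs a ∈ 𝒜 (dd d a) :=
  SetLike.prod_mem_graded (A := 𝒜) (fun k => d (a k).down) (fun k => fs.get (a k).down) fun k _ => hm _

include hd in
theorem dd_pos {q : ℕ} (a : Fin (q + 1) → ULift.{u} (Fin fs.length)) : 0 < dd d a :=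
  Finset.sum_pos (fun k _ => hd _) ⟨0, Finset.mem_univ _⟩

/-- The comparison on one intersection. -/
def io (n : ℤ) {q : ℕ} (a : Fin (q + 1) → ULift.{u} (Fin fs.length)) :
    ((_root_.GrTilde.tilde 𝒜 ℳ n).presheaf.obj (op (Cech.obj (famP 𝒜 fs) a)) : Type u) →+
      ((spT A M).presheaf.obj (op (Cech.obj (famS fs) a)) : Type u) :=
  iota 𝒜 n (hh_mem 𝒜 d hm a) (dd_pos d hd a) (objP 𝒜 fs a) (objS fs a)

/-- The comparison of cochains in one degree. -/
def ff (n : ℤ) (q : ℕ) : ((cxP 𝒜 ℳ fs n).X q : Type u) →+ ((cxS A M fs).X q : Type u) :=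
  AddMonoidHom.mk' (fun x => Cech.mk (famS fs) (spT A M).presheaf fun a =>
      io 𝒜 ℳ d hd hm n a (Cech.ev (famP 𝒜 fs) (_root_.GrTilde.tilde 𝒜 ℳ n).presheaf a x))
    fun x y => Cech.ext _ _ fun a => by
      simp only [map_add, Cech.ev_mk]

theorem ev_ff (n : ℤ) {q : ℕ} (x : (cxP 𝒜 ℳ fs n).X q) (a : Fin (q + 1) → ULift.{u} (Fin fs.length)) :
    Cech.ev (famS fs) (spT A M).presheaf a (ff 𝒜 ℳ d hd hm n q x) =
      io 𝒜 ℳ d hd hm n a (Cech.ev (famP 𝒜 fs) (_root_.GrTilde.tilde 𝒜 ℳ n).presheaf a x) :=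
  Cech.ev_mk _ _ _ a

/-- The comparison of Čech complexes. -/
def phi (n : ℤ) : cxP 𝒜 ℳ fs n ⟶ cxS A M fs where
  f q := AddCommGrpCat.ofHom (ff 𝒜 ℳ d hd hm n q)
  comm' q q' hqq' := by
    obtain rfl : q + 1 = q' := hqq'
    refine ConcreteCategory.hom_ext _ _ fun x => Cech.ext _ _ fun a => ?_
    show Cech.ev (famS fs) _ a ((cxS A M fs).d q (q + 1) (ff 𝒜 ℳ d hd hm n q x)) =
      Cech.ev (famS fs) _ a (ff 𝒜 ℳ d hd hm n (q + 1) ((cxP 𝒜 ℳ fs n).d q (q + 1) x))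
    rw [Cech.ev_d, ev_ff, Cech.ev_d, map_sum]
    refine Finset.sum_congr rfl fun k _ => ?_
    rw [map_zsmul, ev_ff]
    congr 1
    exact (iota_res 𝒜 (hh_mem 𝒜 d hm _) (dd_pos d hd _) (objP 𝒜 fs _) (objS fs _)
      (g := fs.get (a k).down) (hm _)
      ((Fin.prod_univ_succAbove (fun l => fs.get (a l).down) k).trans (mul_comm _ _))
      ((Fin.sum_univ_succAbove (fun l => d (a l).down) k).trans (add_comm _ _))
      (hh_mem 𝒜 d hm a) (dd_pos d hd a) (objP 𝒜 fs a) (objS fs a) (Cech.proj (famP 𝒜 fs) a k) (Cech.proj (famS fs) a k) _).symm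

theorem phi_bijective (q : ℕ) : Function.Bijective (psi (phi 𝒜 ℳ d hd hm) q) := by
  classical
  have hb : ∀ a : Fin (q + 1) → ULift.{u} (Fin fs.length),
      Function.Bijective (DirectSum.toAddMonoid fun n : ℤ => io 𝒜 ℳ d hd hm n a) := fun a =>
    sum_iota_bijective 𝒜 (hh_mem 𝒜 d hm a) (dd_pos d hd a) (objP 𝒜 fs a) (objS fs a)
  have hev : ∀ (x : ⨁ n, ((cxP 𝒜 ℳ fs n).X q : Type u)) (a : Fin (q + 1) → ULift.{u} (Fin fs.length)),
      Cech.ev (famS fs) (spT A M).presheaf a (psi (phi 𝒜 ℳ d hd hm) q x) =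
        DirectSum.toAddMonoid (fun n : ℤ => io 𝒜 ℳ d hd hm n a)
          (DirectSum.map (fun n : ℤ => (Cech.ev (famP 𝒜 fs) (_root_.GrTilde.tilde 𝒜 ℳ n).presheaf a).hom) x) := by
    intro x a
    induction x using DirectSum.induction_on with
    | zero => simp
    | of n y =>
      rw [psi_of, DirectSum.map_of, DirectSum.toAddMonoid_of]
      exact ev_ff 𝒜 ℳ d hd hm n y a
    | add x y hx hy => simp only [map_add, hx, hy]
  refine ⟨(injective_iff_map_eq_zero _).2 fun x hx => DFinsupp.ext fun n => Cech.ext _ _ fun a => ?_, fun y => ?_⟩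
  · have h0 := hev x a
    rw [hx, map_zero] at h0
    have h1 := (hb a).1 (h0.symm.trans (map_zero _).symm)
    have h2 := DFunLike.congr_fun h1 n
    rw [DirectSum.map_apply, DirectSum.zero_apply] at h2
    exact h2.trans (map_zero _).symm
  · choose z hz using fun a : Fin (q + 1) → ULift.{u} (Fin fs.length) =>
      (hb a).2 (Cech.ev (famS fs) (spT A M).presheaf a y)
    let S : Finset ℤ := Finset.univ.biUnion fun a => (z a).support
    let x : ⨁ n, ((cxP 𝒜 ℳ fs n).X q : Type u) := DirectSum.mk (fun n => ((cxP 𝒜 ℳ fs n).X q : Type u)) S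
      fun n => Cech.mk (famP 𝒜 fs) (_root_.GrTilde.tilde 𝒜 ℳ n.1).presheaf fun a => z a n.1
    refine ⟨x, Cech.ext _ _ fun a => ?_⟩
    rw [hev, ← hz a]
    refine congrArg _ (DFinsupp.ext fun n => ?_)
    rw [DirectSum.map_apply]
    by_cases hn : n ∈ S
    · rw [show x n = Cech.mk (famP 𝒜 fs) (_root_.GrTilde.tilde 𝒜 ℳ n).presheaf fun a => z a n from
        DirectSum.mk_apply_of_mem hn]
      exact Cech.ev_mk _ _ _ a
    · rw [show x n = 0 from DirectSum.mk_apply_of_notMem hn, map_zero]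
      by_contra h
      exact hn (Finset.mem_biUnion.2 ⟨a, Finset.mem_univ _, DFinsupp.mem_support_iff.2 (Ne.symm h)⟩)

omit d in
/-- **All twists on the union of the `D₊(f)` against the Koszul colimit.** -/
theorem main (hfs : ∀ a ∈ fs, ∃ d : ℕ, 0 < d ∧ a ∈ 𝒜 d) (p : ℕ) (hp : 1 ≤ p) :
    Nonempty (DirectSum ℤ (fun n : ℤ => Coh.HHon (Proj 𝒜) (_root_.GrTilde.tilde 𝒜 ℳ n)
        (⨆ i : Fin fs.length, Proj.basicOpen 𝒜 (fs.get i)) p) ≃+
      CohIII.koszulHLim fs (ModuleCat.of A M) (p + 1)) := by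
  classical
  obtain ⟨q, rfl⟩ : ∃ q, p = q + 1 := ⟨p - 1, by omega⟩
  choose d hd hm using fun i : Fin fs.length => hfs (fs.get i) (fs.get_mem i)
  have haff : ∀ (m : ℕ) (a : Fin (m + 1) → ULift.{u} (Fin fs.length)), IsAffineOpen (⨅ k, famP 𝒜 fs (a k)) :=
    fun m a => by
      rw [← Cech.obj_eq_iInf, objP]
      exact Proj.isAffineOpen_basicOpen 𝒜 _ (hh_mem 𝒜 d hm a) (dd_pos d hd a)
  have hU : iSup (famP 𝒜 fs) = ⨆ i : Fin fs.length, Proj.basicOpen 𝒜 (fs.get i) :=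
    le_antisymm (iSup_le fun k => le_iSup (fun k => Proj.basicOpen 𝒜 (fs.get k)) k.down)
      (iSup_le fun k => le_iSup_of_le ⟨k⟩ le_rfl)
  have e1 : ∀ n : ℤ, Nonempty (Coh.HHon (Proj 𝒜) (_root_.GrTilde.tilde 𝒜 ℳ n)
      (⨆ i : Fin fs.length, Proj.basicOpen 𝒜 (fs.get i)) (q + 1) ≃+ ((cxP 𝒜 ℳ fs n).homology (q + 1) : Type u)) := by
    intro n
    haveI : (_root_.GrTilde.tilde 𝒜 ℳ n).IsQuasicoherent := GrTilde.isQuasicoherent_tilde n
    obtain ⟨e₂⟩ := Cohom.nonempty_cechH_equiv (famP 𝒜 fs) (_root_.GrTilde.tilde 𝒜 ℳ n) haff (q + 1)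
    rw [hU] at e₂
    obtain ⟨e₃⟩ := Cohom.nonempty_HHon_equiv (_root_.GrTilde.tilde 𝒜 ℳ n)
      (⨆ i : Fin fs.length, Proj.basicOpen 𝒜 (fs.get i)) (q + 1)
    exact ⟨e₃.trans e₂.symm⟩
  haveI : (spT A M).IsQuasicoherent := inferInstance
  obtain ⟨e4⟩ := KoszulCech.nonempty_cech_equiv (R := CommRingCat.of A) fs (spT A M) q
  obtain ⟨e5⟩ := KoszulCech.nonempty_koszulHLim_congr (A := CommRingCat.of A) fs
    (M := (moduleSpecΓFunctor (R := CommRingCat.of A)).obj (spT A M)) (M' := ModuleCat.of A M)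
    (AlgebraicGeometry.tilde.isoTop (R := CommRingCat.of A) (ModuleCat.of A M)).symm (q + 1 + 1)
  exact ⟨((DFinsupp.mapRange.addEquiv fun n => (e1 n).some).trans
    (AddEquiv.ofBijective _ (homology_bijective (phi 𝒜 ℳ d hd hm) (phi_bijective 𝒜 ℳ d hd hm) q))).trans (e4.trans e5)⟩

end GrothLib.KoszulGr9
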