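import Groth.Agent.Lib.CechTot19.Cech
import Mathlib.Algebra.DirectSum.Module

/-! # Homology of a complex which is a direct sum, element by element -/

set_option autoImplicit false
set_option linter.all false
set_option backward.isDefEq.respectTransparency false

universe u v

open CategoryTheory Limits GrothLib.CechTot19
open scoped DirectSum

noncomputable section

namespace GrothLib.KoszulGr9

theorem clsHom_surjective (M : CochainComplex AddCommGrpCat.{u} ℕ) (p : ℕ) :
    Function.Surjective (clsHom M p) := by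
  intro ξ
  obtain ⟨z, hz⟩ := (AddCommGrpCat.epi_iff_surjective (M.homologyπ p)).1 inferInstance ξ
  have hd : (M.d p (p + 1)).hom ((M.iCycles p).hom z) = 0 :=
    ConcreteCategory.congr_hom (M.iCycles_d p (p + 1)) z
  refine ⟨⟨(M.iCycles p).hom z, hd⟩, ?_⟩
  refine Eq.trans ?_ hz
  show (M.homologyπ p).hom ((toCyc M p).hom _) = _
  exact congrArg (M.homologyπ p).hom ((AddCommGrpCat.mono_iff_injective (M.iCycles p)).1 inferInstance (iCycles_toCyc M p _))

theorem clsHom_boundary (M : CochainComplex AddCommGrpCat.{u} ℕ) (p : ℕ) (z : cocycles M (p + 1)) (y : M.X p)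
    (h : (M.d p (p + 1)).hom y = z.1) : clsHom M (p + 1) z = 0 := by
  have e : (toCyc M (p + 1)).hom z = (M.toCycles p (p + 1)).hom y :=
    (AddCommGrpCat.mono_iff_injective (M.iCycles (p + 1))).1 inferInstance
      ((iCycles_toCyc M (p + 1) z).trans (h.symm.trans (ConcreteCategory.congr_hom (M.toCycles_i p (p + 1)) y).symm))
  show (M.homologyπ (p + 1)).hom ((toCyc M (p + 1)).hom z) = 0
  rw [e]
  exact ConcreteCategory.congr_hom (M.toCycles_comp_homologyπ p (p + 1)) y

variable {C D : CochainComplex AddCommGrpCat.{u} ℕ}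

/-- A chain map on cocycles. -/
def cocMap (φ : C ⟶ D) (p : ℕ) (z : cocycles C p) : cocycles D p :=
  ⟨(φ.f p).hom z.1, (ConcreteCategory.congr_hom (φ.comm p (p + 1)) z.1).trans
    ((congrArg (φ.f (p + 1)).hom z.2).trans (map_zero _))⟩

theorem homologyMap_clsHom (φ : C ⟶ D) (p : ℕ) (z : cocycles C p) :
    (HomologicalComplex.homologyMap φ p).hom (clsHom C p z) = clsHom D p (cocMap φ p z) := by
  have h1 : (HomologicalComplex.cyclesMap φ p).hom ((toCyc C p).hom z) = (toCyc D p).hom (cocMap φ p z) := by
    refine (AddCommGrpCat.mono_iff_injective (D.iCycles p)).1 inferInstance ?_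
    refine (ConcreteCategory.congr_hom (HomologicalComplex.cyclesMap_i φ p) _).trans ?_
    exact (congrArg (φ.f p).hom (iCycles_toCyc C p z)).trans (iCycles_toCyc D p (cocMap φ p z)).symm
  exact (ConcreteCategory.congr_hom (HomologicalComplex.homologyπ_naturality φ p) _).trans
    (congrArg (D.homologyπ p).hom h1)

variable {I : Type v} [DecidableEq I] {E : I → CochainComplex AddCommGrpCat.{u} ℕ} (φ : ∀ i, E i ⟶ D)

/-- The map from the direct sum in one degree. -/
def psi (q : ℕ) : (⨁ i, ((E i).X q : Type u)) →+ (D.X q : Type u) :=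
  DirectSum.toAddMonoid fun i => ((φ i).f q).hom

theorem psi_of (q : ℕ) (i : I) (x : (E i).X q) : psi φ q (DirectSum.of _ i x) = ((φ i).f q).hom x :=
  DirectSum.toAddMonoid_of (fun i => ((φ i).f q).hom) i x

/-- **Homology commutes with a direct sum decomposition.** -/
theorem homology_bijective (hψ : ∀ q, Function.Bijective (psi φ q)) (p : ℕ) :
    Function.Bijective (DirectSum.toAddMonoid fun i => (HomologicalComplex.homologyMap (φ i) (p + 1)).hom :
      (⨁ i, ((E i).homology (p + 1) : Type u)) →+ (D.homology (p + 1) : Type u)) := by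
  classical
  let dE : ∀ q, (⨁ i, ((E i).X q : Type u)) →+ ⨁ i, ((E i).X (q + 1) : Type u) := fun q =>
    DirectSum.map fun i => ((E i).d q (q + 1)).hom
  have hd : ∀ q (x : ⨁ i, ((E i).X q : Type u)), psi φ (q + 1) (dE q x) = (D.d q (q + 1)).hom (psi φ q x) := by
    intro q x
    induction x using DirectSum.induction_on with
    | zero => simp
    | of i a =>
      simp only [dE, DirectSum.map_of, psi_of]
      exact (ConcreteCategory.congr_hom ((φ i).comm q (q + 1)) a).symm
    | add a b ha hb => simp only [map_add, ha, hb]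
  let Φ := (DirectSum.toAddMonoid fun i => (HomologicalComplex.homologyMap (φ i) (p + 1)).hom :
      (⨁ i, ((E i).homology (p + 1) : Type u)) →+ (D.homology (p + 1) : Type u))
  let cl : (⨁ i, (cocycles (E i) (p + 1))) →+ ⨁ i, ((E i).homology (p + 1) : Type u) :=
    DirectSum.map fun i => clsHom (E i) (p + 1)
  let inc : (⨁ i, (cocycles (E i) (p + 1))) →+ ⨁ i, ((E i).X (p + 1) : Type u) :=
    DirectSum.map fun i => (cocycles (E i) (p + 1)).subtype
  let tot : (⨁ i, (cocycles (E i) (p + 1))) →+ cocycles D (p + 1) :=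
    AddMonoidHom.codRestrict ((psi φ (p + 1)).comp inc) _ fun z => by
      show (D.d (p + 1) (p + 1 + 1)).hom (psi φ (p + 1) (inc z)) = 0
      rw [← hd, show dE (p + 1) (inc z) = 0 from DFinsupp.ext fun i => ?_, map_zero]
      simp only [dE, inc, DirectSum.map_apply]
      exact (z i).2
  have hΦ : ∀ z, Φ (cl z) = clsHom D (p + 1) (tot z) := by
    intro z
    induction z using DirectSum.induction_on with
    | zero => simp
    | of i a =>
      simp only [Φ, cl, DirectSum.map_of, DirectSum.toAddMonoid_of]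
      refine (homologyMap_clsHom (φ i) (p + 1) a).trans (congrArg (clsHom D (p + 1)) (Subtype.ext ?_))
      show ((φ i).f (p + 1)).hom a.1 = psi φ (p + 1) (inc (DirectSum.of _ i a))
      simp only [inc, DirectSum.map_of, psi_of]
      rfl
    | add a b ha hb => simp only [map_add, ha, hb]
  have hcl : Function.Surjective cl := by
    intro ξ
    induction ξ using DirectSum.induction_on with
    | zero => exact ⟨0, map_zero _⟩
    | of i a =>
      obtain ⟨z, rfl⟩ := clsHom_surjective (E i) (p + 1) a
      exact ⟨DirectSum.of _ i z, DirectSum.map_of (f := fun i => clsHom (E i) (p + 1)) i z⟩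
    | add a b ha hb =>
      obtain ⟨x, rfl⟩ := ha
      obtain ⟨y, rfl⟩ := hb
      exact ⟨x + y, map_add _ _ _⟩
  refine ⟨(injective_iff_map_eq_zero Φ).2 fun ξ hξ => ?_, fun η => ?_⟩
  · obtain ⟨z, rfl⟩ := hcl ξ
    rw [hΦ] at hξ
    obtain ⟨y, hy⟩ := clsHom_succ_imp D p (tot z) hξ
    obtain ⟨b, rfl⟩ := (hψ p).2 y
    rw [← hd] at hy
    have h1 : dE p b = inc z := (hψ (p + 1)).1 hy
    refine DFinsupp.ext fun i => ?_
    simp only [cl, DirectSum.map_apply]
    refine clsHom_boundary (E i) p (z i) (b i) ?_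
    have h2 := DFunLike.congr_fun h1 i
    exact ((DirectSum.map_apply (fun i => ((E i).d p (p + 1)).hom) i b).symm.trans h2).trans
      (DirectSum.map_apply (fun i => (cocycles (E i) (p + 1)).subtype) i z)
  · obtain ⟨z, rfl⟩ := clsHom_surjective D (p + 1) η
    obtain ⟨c, hc⟩ := (hψ (p + 1)).2 z.1
    have h0 : dE (p + 1) c = 0 := (hψ (p + 1 + 1)).1 (by rw [hd, hc, map_zero]; exact z.2)
    have hmem : ∀ i, c i ∈ cocycles (E i) (p + 1) := fun i => by
      have h2 := DFunLike.congr_fun h0 i
      simp only [dE, DirectSum.map_apply] at h2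
      exact h2
    let c' : ⨁ i, (cocycles (E i) (p + 1)) :=
      DirectSum.mk (fun i => cocycles (E i) (p + 1)) c.support fun i => ⟨c i.1, hmem i.1⟩
    refine ⟨cl c', (hΦ c').trans (congrArg (clsHom D (p + 1)) (Subtype.ext ?_))⟩
    show psi φ (p + 1) (inc c') = z.1
    rw [← hc]
    refine congrArg _ (DFinsupp.ext fun i => ?_)
    simp only [inc, DirectSum.map_apply]
    by_cases h : i ∈ c.support
    · rw [show c' i = ⟨c i, hmem i⟩ from DirectSum.mk_apply_of_mem h]
      rfl
    · rw [show c' i = 0 from DirectSum.mk_apply_of_notMem h, DFinsupp.notMem_support_iff.1 h]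
      rfl

end GrothLib.KoszulGr9
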